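import Groth.Agent.GrpdSlice.Step
import Groth.Agent.SpQS.QFAt
import Mathlib

/-!
Slices of groupoids of minimal dimension.
-/

set_option autoImplicit false
set_option linter.style.haveILetI false

universe u

open CategoryTheory CategoryTheory.Limits AlgebraicGeometry IsLocalRing Topology
open Groth.Agent Groth.Agent.DimFormula

namespace Groth.Agent.GrpdSlice

theorem flat_of_isCMAt {X Y : Scheme.{u}} {f : X ⟶ Y} (h : ∀ x, Grpd.IsCMAt f x) : Flat f :=
  Flat.of_stalkMap f fun x => (h x).1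

variable {S : Scheme.{u}} (G : Grpd.GroupoidScheme S)
  [LocallyOfFinitePresentation G.s] [LocallyOfFinitePresentation G.t] (u : G.U)

/-- An affine neighbourhood of the point is a slice. -/
theorem start (he : Grpd.IsCMAt G.s (G.e u)) :
    ∃ (U' : Scheme.{u}) (_ : IsAffine U') (g : U' ⟶ G.U) (u' : U') (p : ↥(pullback g G.t)),
      IsImmersion g ∧ LocallyOfFinitePresentation g ∧ g u' = u ∧ pullback.fst g G.t p = u' ∧
      pullback.snd g G.t p = G.e u ∧ Grpd.IsCMAt (hMap G g) p ∧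
      FlatMor.fibreDimAt (hMap G g) p = FlatMor.fibreDimAt G.s (G.e u) := by
  obtain ⟨V, hV, huV, -⟩ := exists_isAffineOpen_mem_and_subset (X := G.U) (x := u) (U := ⊤) trivial
  haveI : IsAffine V := hV
  obtain ⟨p, hp0, hp1⟩ := Scheme.Pullback.exists_preimage_pullback (f := V.ι) (g := G.t) (⟨u, huV⟩ : V) (G.e u)
    (show V.ι ⟨u, huV⟩ = G.t (G.e u) by rw [← Scheme.Hom.comp_apply, G.e_t]; rfl)
  haveI : IsOpenImmersion (pullback.snd V.ι G.t) := inferInstance
  refine ⟨V, inferInstance, V.ι, ⟨u, huV⟩, p, inferInstance, inferInstance, rfl, hp0, hp1, ?_, ?_⟩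
  · exact (isCMAt_openImmersion (pullback.snd V.ι G.t) G.s p).2 (hp1.symm ▸ he)
  · exact (fibreDimAt_openImmersion (pullback.snd V.ι G.t) G.s p).trans (congrArg _ hp1)

theorem exists_nat_fibreDimAt {U' : Scheme.{u}} (g : U' ⟶ G.U) [IsImmersion g]
    [LocallyOfFinitePresentation g] (p : ↥(pullback g G.t)) (hp1 : pullback.snd g G.t p = G.e u)
    (hcm : Grpd.IsCMAt (hMap G g) p) : ∃ n : ℕ, FlatMor.fibreDimAt (hMap G g) p = (n : WithBot ℕ∞) ∧
      ringKrullDim ((pullback g G.t).presheaf.stalk p ⧸ fibreIdeal G g p) = (n : WithBot ℕ∞) := by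
  haveI : LocallyOfFiniteType (pullback.snd g G.t) :=
    MorphismProperty.pullback_snd (P := @LocallyOfFiniteType) _ _ inferInstance
  haveI : LocallyOfFiniteType (hMap G g) := inferInstanceAs (LocallyOfFiniteType (_ ≫ _))
  haveI : LocCoh.IsCohenMacaulayLocalRing ((pullback g G.t).presheaf.stalk p ⧸ fibreIdeal G g p) := hcm.2
  obtain ⟨n, hn⟩ := SerreReg.exists_dim_nat ((pullback g G.t).presheaf.stalk p ⧸ fibreIdeal G g p)
  exact ⟨n, (fibreDimAt_eq_ringKrullDim (hMap G g) p (isClosed_asFiber G g hp1)).trans hn, hn⟩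

variable [LocallyOfFiniteType (G.U.fromSpecResidueField u)]

theorem exists_min_aux (n : ℕ) : ∀ {U' : Scheme.{u}} [IsAffine U'] (g : U' ⟶ G.U) [IsImmersion g]
    [LocallyOfFinitePresentation g] (u' : U') (p : ↥(pullback g G.t)), g u' = u → pullback.fst g G.t p = u' →
    pullback.snd g G.t p = G.e u → Grpd.IsCMAt (hMap G g) p →
    FlatMor.fibreDimAt (hMap G g) p = (n : WithBot ℕ∞) →
    ∃ (U₂ : Scheme.{u}) (_ : IsAffine U₂) (g₂ : U₂ ⟶ G.U) (u₂ : U₂) (p₂ : ↥(pullback g₂ G.t)),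
      IsImmersion g₂ ∧ LocallyOfFinitePresentation g₂ ∧ g₂ u₂ = u ∧ pullback.fst g₂ G.t p₂ = u₂ ∧
      pullback.snd g₂ G.t p₂ = G.e u ∧ Grpd.IsCMAt (hMap G g₂) p₂ ∧
      FlatMor.fibreDimAt (hMap G g₂) p₂ = topologicalKrullDim ↥(G.stabilizerToU.fiber u) := by
  induction n using Nat.strong_induction_on with
  | _ n ih =>
    intro U' _ g _ _ u' p hgu hp0 hp1 hcm hn
    by_cases hlt : topologicalKrullDim ↥(G.stabilizerToU.fiber u) < FlatMor.fibreDimAt (hMap G g) p
    · obtain ⟨U₂, _, g₂, u₂, p₂, _, _, hgu₂, hq0, hq1, hcm₂, hdim⟩ := step G u g hgu hp0 hp1 hcm hlt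
      obtain ⟨m, hm, -⟩ := exists_nat_fibreDimAt G u g₂ p₂ hq1 hcm₂
      rw [hm, hn] at hdim
      have hmn : m + 1 = n := by exact_mod_cast hdim
      exact ih m (by omega) g₂ u₂ p₂ hgu₂ hq0 hq1 hcm₂ hm
    · obtain ⟨n', hn', hd'⟩ := exists_nat_fibreDimAt G u g p hp1 hcm
      exact ⟨U', inferInstance, g, u', p, inferInstance, inferInstance, hgu, hp0, hp1, hcm,
        le_antisymm (not_lt.1 hlt) ((dim_le_fibre G g hgu hp0 hp1).trans (hd'.trans hn'.symm).le)⟩

/-- A slice of minimal fibre dimension at the point. -/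
theorem exists_min (he : Grpd.IsCMAt G.s (G.e u)) :
    ∃ (U₂ : Scheme.{u}) (_ : IsAffine U₂) (g₂ : U₂ ⟶ G.U) (u₂ : U₂) (p₂ : ↥(pullback g₂ G.t)),
      IsImmersion g₂ ∧ LocallyOfFinitePresentation g₂ ∧ g₂ u₂ = u ∧ pullback.fst g₂ G.t p₂ = u₂ ∧
      pullback.snd g₂ G.t p₂ = G.e u ∧ Grpd.IsCMAt (hMap G g₂) p₂ ∧
      FlatMor.fibreDimAt (hMap G g₂) p₂ = topologicalKrullDim ↥(G.stabilizerToU.fiber u) := by
  obtain ⟨U', _, g, u', p, _, _, hgu, hp0, hp1, hcm, -⟩ := start G u he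
  obtain ⟨n, hn, -⟩ := exists_nat_fibreDimAt G u g p hp1 hcm
  exact exists_min_aux G u n g u' p hgu hp0 hp1 hcm hn

omit [LocallyOfFiniteType (G.U.fromSpecResidueField u)]

/-- Shrinking a slice to an affine open above which the arrows lie in a given saturated open. -/
theorem shrink [Flat G.t] {U' : Scheme.{u}} (g : U' ⟶ G.U) [IsImmersion g] [LocallyOfFinitePresentation g]
    {u' : U'} {p : ↥(pullback g G.t)} (hgu : g u' = u) (hp0 : pullback.fst g G.t p = u')
    (hp1 : pullback.snd g G.t p = G.e u) (O : Set ↥(pullback g G.t)) (hO : IsOpen O) (hpO : p ∈ O)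
    (hsat : ∀ q₀ q, pullback.fst g G.t q₀ = pullback.fst g G.t q → q₀ ∈ O → q ∈ O) :
    ∃ (U₃ : Scheme.{u}) (_ : IsAffine U₃) (g₃ : U₃ ⟶ G.U) (u₃ : U₃) (p₃ : ↥(pullback g₃ G.t))
      (j : pullback g₃ G.t ⟶ pullback g G.t),
      IsImmersion g₃ ∧ LocallyOfFinitePresentation g₃ ∧ g₃ u₃ = u ∧ pullback.fst g₃ G.t p₃ = u₃ ∧
      pullback.snd g₃ G.t p₃ = G.e u ∧ IsOpenImmersion j ∧ j p₃ = p ∧ j ≫ hMap G g = hMap G g₃ ∧
      ∀ q, j q ∈ O := by
  haveI : Flat (pullback.fst g G.t) := MorphismProperty.pullback_fst (P := @Flat) _ _ inferInstance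
  haveI : LocallyOfFinitePresentation (pullback.fst g G.t) :=
    MorphismProperty.pullback_fst (P := @LocallyOfFinitePresentation) _ _ inferInstance
  obtain ⟨V, hV, huV, hVO⟩ := exists_isAffineOpen_mem_and_subset (X := U') (x := u')
    (U := ⟨_, (pullback.fst g G.t).isOpenMap O hO⟩) ⟨p, hpO, hp0⟩
  haveI : IsAffine V := hV
  let g₃ : (V : Scheme.{u}) ⟶ G.U := V.ι ≫ g
  let j : pullback g₃ G.t ⟶ pullback g G.t :=
    pullback.lift (pullback.fst g₃ G.t ≫ V.ι) (pullback.snd g₃ G.t)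
      (by rw [Category.assoc]; exact pullback.condition)
  have hj2 : j ≫ pullback.snd g G.t = pullback.snd g₃ G.t := pullback.lift_snd _ _ _
  have sq : IsPullback j (pullback.fst g₃ G.t) (pullback.fst g G.t) V.ι := by
    refine IsPullback.of_right ?_ (pullback.lift_fst _ _ _) (IsPullback.of_hasPullback g G.t).flip
    rw [hj2]
    exact (IsPullback.of_hasPullback g₃ G.t).flip
  haveI : IsOpenImmersion j := MorphismProperty.of_isPullback sq.flip inferInstance
  obtain ⟨p₃, hp3, hq0⟩ := Scheme.exists_preimage_of_isPullback sq p (⟨u', huV⟩ : V) hp0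
  refine ⟨V, inferInstance, g₃, ⟨u', huV⟩, p₃, j, inferInstance, inferInstance, hgu, hq0, ?_, inferInstance, hp3,
    by rw [hMap, hMap, ← Category.assoc, hj2], fun q => ?_⟩
  · rw [← hj2, Scheme.Hom.comp_apply, hp3, hp1]
  · obtain ⟨q₀, hq₀, hq⟩ := hVO (pullback.fst g₃ G.t q).2
    exact hsat q₀ (j q) (hq.trans (congr($(sq.w) q)).symm) hq₀

theorem lfp_hMap {U' : Scheme.{u}} (g : U' ⟶ G.U) [LocallyOfFinitePresentation g] :
    LocallyOfFinitePresentation (hMap G g) := by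
  haveI : LocallyOfFinitePresentation (pullback.snd g G.t) :=
    MorphismProperty.pullback_snd (P := @LocallyOfFinitePresentation) _ _ inferInstance
  exact inferInstanceAs (LocallyOfFinitePresentation (_ ≫ _))

theorem exists_max_slice (hs : ∀ r, Grpd.IsCMAt G.s r) (ht : ∀ r, Grpd.IsCMAt G.t r)
    (hu : LocallyOfFiniteType (G.U.fromSpecResidueField u)) :
    ∃ (U' : Scheme.{u}) (_ : IsAffine U') (g : U' ⟶ G.U) (u' : U') (p : ↥(pullback g G.t)),
      IsImmersion g ∧ LocallyOfFinitePresentation g ∧ g u' = u ∧ pullback.fst g G.t p = u' ∧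
      pullback.snd g G.t p = G.e u ∧ (∀ q, Grpd.IsCMAt (hMap G g) q) ∧
      FlatMor.fibreDimAt (hMap G g) p = topologicalKrullDim ↥(G.stabilizerToU.fiber u) := by
  haveI := hu
  haveI := flat_of_isCMAt hs
  haveI := flat_of_isCMAt ht
  obtain ⟨U', _, g, u', p, _, _, hgu, hp0, hp1, hcm, hdim⟩ := exists_min G u (hs _)
  haveI := lfp_hMap G g
  obtain ⟨U₃, _, g₃, u₃, p₃, j, _, _, hgu₃, hq0, hq1, _, hjp, hj, hall⟩ :=
    shrink G u g hgu hp0 hp1 {q | Grpd.IsCMAt (hMap G g) q} (isOpen_setOf_isCMAt _) hcm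
      (fun q₀ q h h0 => isCMAt_transfer G g q₀ q h h0)
  refine ⟨U₃, inferInstance, g₃, u₃, p₃, inferInstance, inferInstance, hgu₃, hq0, hq1, fun q => ?_, ?_⟩
  · rw [← hj]; exact (isCMAt_openImmersion j (hMap G g) q).2 (hall q)
  · rw [← hj, fibreDimAt_openImmersion j (hMap G g) p₃, hjp, hdim]

theorem restricted (ht : ∀ r, Grpd.IsCMAt G.t r) {U' : Scheme.{u}} (g : U' ⟶ G.U)
    [LocallyOfFinitePresentation g] (h : ∀ q, Grpd.IsCMAt (hMap G g) q) :
    (∀ q, Grpd.IsCMAt (pullback.snd (hMap G g) g) q) ∧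
    LocallyOfFinitePresentation (pullback.snd (hMap G g) g) ∧
    (∀ q, Grpd.IsCMAt (pullback.fst (hMap G g) g ≫ pullback.fst g G.t) q) ∧
    LocallyOfFinitePresentation (pullback.fst (hMap G g) g ≫ pullback.fst g G.t) := by
  haveI := lfp_hMap G g
  haveI h1 : LocallyOfFinitePresentation (pullback.snd (hMap G g) g) :=
    MorphismProperty.pullback_snd (P := @LocallyOfFinitePresentation) _ _ inferInstance
  have hc : ∀ q, Grpd.IsCMAt (pullback.snd (hMap G g) g) q :=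
    fun q => isCMAt_baseChange (IsPullback.of_hasPullback (hMap G g) g) q (h _)
  obtain ⟨σ, hσ⟩ := exists_swap G g
  refine ⟨hc, h1, fun q => ?_, ?_⟩
  · rw [← hσ]; exact (isCMAt_openImmersion σ.hom _ q).2 (hc _)
  · rw [← hσ]; infer_instance

theorem dim_stabilizer_eq_zero [LocallyOfFiniteType (G.U.fromSpecResidueField u)]
    [LocallyQuasiFinite G.stabilizerToU] :
    topologicalKrullDim ↥(G.stabilizerToU.fiber u) = 0 := by
  haveI : Nonempty ↥(G.stabilizerToU.fiber u) := by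
    have hej : G.e ≫ G.j = G.diag := by
      apply pullback.hom_ext
      · rw [Category.assoc, show G.j ≫ pullback.fst G.pU G.pU = G.t from pullback.lift_fst _ _ _, G.e_t]
        exact (pullback.lift_fst _ _ _).symm
      · rw [Category.assoc, show G.j ≫ pullback.snd G.pU G.pU = G.s from pullback.lift_snd _ _ _, G.e_s]
        exact (pullback.lift_snd _ _ _).symm
    obtain ⟨z, -, hz⟩ := Scheme.Pullback.exists_preimage_pullback (f := G.j) (g := G.diag) (G.e u) u congr($hej u)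
    obtain ⟨w, -⟩ : z ∈ Set.range (G.stabilizerToU.fiberι u) := by rw [G.stabilizerToU.range_fiberι]; exact hz
    exact ⟨w⟩
  haveI : DiscreteTopology ↥(G.stabilizerToU.fiber u) := inferInstance
  haveI : Nonempty (TopologicalSpace.IrreducibleCloseds ↥(G.stabilizerToU.fiber u)) := by
    obtain ⟨w⟩ := ‹Nonempty ↥(G.stabilizerToU.fiber u)›
    exact ⟨⟨closure {w}, isIrreducible_singleton.closure, isClosed_closure⟩⟩
  exact le_antisymm (topologicalKrullDim_zero_of_discreteTopology _) Order.krullDim_nonneg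

theorem exists_slice_qf [Flat G.s] [Flat G.t] (he : Grpd.IsCMAt G.s (G.e u))
    [LocallyQuasiFinite G.stabilizerToU] (hu : LocallyOfFiniteType (G.U.fromSpecResidueField u)) :
    ∃ (U' : Scheme.{u}) (_ : IsAffine U') (g : U' ⟶ G.U) (u' : U'),
      IsImmersion g ∧ LocallyOfFinitePresentation g ∧ g u' = u ∧ (∀ q, Grpd.IsCMAt (hMap G g) q) ∧
      LocallyQuasiFinite (hMap G g) := by
  haveI := hu
  obtain ⟨U', _, g, u', p, _, _, hgu, hp0, hp1, hcm, hdim⟩ := exists_min G u he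
  rw [dim_stabilizer_eq_zero] at hdim
  haveI := lfp_hMap G g
  obtain ⟨U₃, _, g₃, u₃, p₃, j, _, _, hgu₃, -, -, _, -, hj, hall⟩ :=
    shrink G u g hgu hp0 hp1 ({q | Grpd.IsCMAt (hMap G g) q} ∩ {q | (hMap G g).QuasiFiniteAt q})
      ((isOpen_setOf_isCMAt _).inter (hMap G g).quasiFiniteLocus.isOpen)
      ⟨hcm, (SpQS.fibreDimAt_eq_zero_iff _ _).1 hdim⟩
      (fun q₀ q h h0 => ⟨isCMAt_transfer G g q₀ q h h0.1, (SpQS.fibreDimAt_eq_zero_iff _ _).1
        ((fibreDimAt_transfer G g q₀ q h).symm.trans ((SpQS.fibreDimAt_eq_zero_iff _ _).2 h0.2))⟩)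
  haveI := lfp_hMap G g₃
  refine ⟨U₃, inferInstance, g₃, u₃, inferInstance, inferInstance, hgu₃, fun q => ?_, ?_⟩
  · rw [← hj]; exact (isCMAt_openImmersion j (hMap G g) q).2 (hall q).1
  · refine (hMap G g₃).quasiFiniteLocus_eq_top_iff.1 (top_le_iff.1 fun q _ => ?_)
    show (hMap G g₃).QuasiFiniteAt q
    rw [← hj]
    exact Scheme.Hom.quasiFiniteAt_comp_iff_of_isOpenImmersion.2 (hall q).2

end Groth.Agent.GrpdSlice
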