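import Groth.Prelude.Def_Grpd
import Groth.Agent.CMChart.Slice
import Groth.Agent.CMChart.OverField
import Groth.Agent.CMFlat.Scheme
import Groth.Agent.CMFlat.BaseChange
import Groth.Agent.CMFlat.RegImm
import Groth.Agent.LocalDimBC.Scheme
import Groth.Agent.S1345
import Groth.Agent.S1347
import Groth.Agent.S1348
import Groth.Agent.SpRelDim.Scheme
import Mathlib

/-!
Cohen–Macaulay morphisms in the sense of `Grpd.IsCMAt`: base change, open immersions, hypersurfaces.
-/

set_option autoImplicit false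
set_option linter.style.haveILetI false

universe u

open CategoryTheory CategoryTheory.Limits AlgebraicGeometry IsLocalRing

namespace Groth.Agent.GrpdSlice

variable {X Y X' Y' : Scheme.{u}}

theorem isCMAt_iff (f : X ⟶ Y) (x : X) : Grpd.IsCMAt f x ↔ MoreMor.IsCMAt f x := by
  obtain ⟨e⟩ := CMFlat.nonempty_fiberStalk_equiv f x
  exact ⟨fun h => ⟨h.1, @CMChart.isCohenMacaulayLocalRing_of_ringEquiv _ _ _ _ e h.2⟩,
    fun h => ⟨h.1, @CMChart.isCohenMacaulayLocalRing_of_ringEquiv _ _ _ _ e.symm h.2⟩⟩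

theorem isLocallyNoetherian_fiber (f : X ⟶ Y) [LocallyOfFiniteType f] (y : Y) :
    IsLocallyNoetherian (f.fiber y) := by
  haveI : LocallyOfFiniteType (f.fiberToSpecResidueField y) :=
    MorphismProperty.pullback_snd (P := @LocallyOfFiniteType) _ _ inferInstance
  exact LocallyOfFiniteType.isLocallyNoetherian (f.fiberToSpecResidueField y)

theorem isCMAt_baseChange {f : X ⟶ Y} [LocallyOfFiniteType f] {f' : X' ⟶ Y'} {g' : X' ⟶ X} {g : Y' ⟶ Y}
    [LocallyOfFiniteType g] (hc : IsPullback g' f' f g) (x' : X') (h : Grpd.IsCMAt f (g' x')) :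
    Grpd.IsCMAt f' x' :=
  (isCMAt_iff f' x').2 (S1345.result f (isLocallyNoetherian_fiber f) f' g' g hc x' ((isCMAt_iff _ _).1 h))

theorem isCMAt_of_baseChange {f : X ⟶ Y} [LocallyOfFiniteType f] {f' : X' ⟶ Y'} {g' : X' ⟶ X} {g : Y' ⟶ Y}
    [LocallyOfFiniteType g] (hc : IsPullback g' f' f g) (x' : X') (hflat : (g.stalkMap (f' x')).hom.Flat)
    (h : Grpd.IsCMAt f' x') : Grpd.IsCMAt f (g' x') :=
  (isCMAt_iff _ _).2 (S1347.result f (isLocallyNoetherian_fiber f) f' g' g hc x' hflat ((isCMAt_iff f' x').1 h))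

theorem isCMAt_openImmersion (j : X' ⟶ X) [IsOpenImmersion j] (f : X ⟶ Y) (w : X') :
    Grpd.IsCMAt (j ≫ f) w ↔ Grpd.IsCMAt f (j w) := by
  rw [isCMAt_iff, isCMAt_iff]
  exact CMChart.isCMAt_openImmersion_iff j f w

theorem isOpen_setOf_isCMAt (f : X ⟶ Y) [LocallyOfFinitePresentation f] : IsOpen {x | Grpd.IsCMAt f x} := by
  simp only [isCMAt_iff]
  exact CMChart.isOpen_isCMAt f

theorem fibreDimAt_openImmersion (j : X' ⟶ X) [IsOpenImmersion j] (f : X ⟶ Y) [LocallyOfFiniteType f] (w : X') :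
    FlatMor.fibreDimAt (j ≫ f) w = FlatMor.fibreDimAt f (j w) :=
  SpRelDim.fibreDimAt_etale_comp j f w

/-- If `x` is closed in its fibre, the fibre dimension at `x` is the dimension of the local ring of the fibre. -/
theorem fibreDimAt_eq_ringKrullDim (f : X ⟶ Y) [LocallyOfFiniteType f] (x : X)
    (hcl : IsClosed ({f.asFiber x} : Set (f.fiber (f x)))) :
    FlatMor.fibreDimAt f x = ringKrullDim
      (X.presheaf.stalk x ⧸ (maximalIdeal (Y.presheaf.stalk (f x))).map (f.stalkMap x).hom) := by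
  let p : f.fiber (f x) ⟶ Spec (CommRingCat.of (Y.residueField (f x))) := f.fiberToSpecResidueField (f x)
  haveI : LocallyOfFiniteType p := MorphismProperty.pullback_snd (P := @LocallyOfFiniteType) _ _ inferInstance
  obtain ⟨b, δ, hb, hD, -, hδ⟩ := CMChart.localDim_field_eq p (f.asFiber x)
  obtain ⟨e⟩ := CMFlat.nonempty_fiberStalk_equiv f x
  refine hD.trans ?_
  rw [hδ hcl, add_zero, ← hb]
  exact (ringKrullDim_eq_of_ringEquiv e).symm

end Groth.Agent.GrpdSlice
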