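import Groth.Agent.GrpdSlice.Translate
import Groth.Agent.GrpdSplit.Restrict
import Groth.Agent.S1883
import Groth.Agent.S1887
import Groth.Agent.DimFormula.Dims
import Groth.Agent.DimFormula.Open
import Mathlib

/-!
The dimension of the stabilizer at a finite type point against the fibres of the source on `U' ×_{g,U,t} R`.
-/

set_option autoImplicit false
set_option linter.style.haveILetI false

universe u

open CategoryTheory CategoryTheory.Limits AlgebraicGeometry IsLocalRing Topology
open Groth.Agent Groth.Agent.DimFormula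

namespace Groth.Agent.GrpdSlice

theorem topologicalKrullDim_le_of_range {A B C : Type u} [TopologicalSpace A] [TopologicalSpace B]
    [TopologicalSpace C] (f : A → C) (hf : IsEmbedding f) (g : B → C) (hg : IsEmbedding g)
    (h : Set.range f ⊆ Set.range g) : topologicalKrullDim A ≤ topologicalKrullDim B := by
  choose k hk using fun a => h ⟨a, rfl⟩
  have hk' : g ∘ k = f := funext hk
  have hc : Continuous k := hg.isInducing.continuous_iff.2 (hk' ▸ hf.continuous)
  exact (IsEmbedding.of_comp hc hg.continuous (hk' ▸ hf)).isInducing.topologicalKrullDim_le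

theorem topologicalKrullDim_Spec (R : Type u) [CommRing R] :
    topologicalKrullDim ↥(Spec (CommRingCat.of R)) = ringKrullDim R :=
  PrimeSpectrum.topologicalKrullDim_eq_ringKrullDim R

/-- A section of a morphism of finite type gives closed points of the fibres. -/
theorem isClosed_section {X Y : Scheme.{u}} (f : X ⟶ Y) [LocallyOfFiniteType f] (e : Y ⟶ X) (he : e ≫ f = 𝟙 Y)
    (y : Y) : IsClosed (f.fiberι y ⁻¹' {e y}) := by
  haveI : IsImmersion (e ≫ f) := by rw [he]; infer_instance
  haveI : IsImmersion e := IsImmersion.of_comp e f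
  haveI : LocallyOfFiniteType (f.fiberToSpecResidueField y) :=
    MorphismProperty.pullback_snd (P := @LocallyOfFiniteType) _ _ inferInstance
  haveI : JacobsonSpace (f.fiber y) := LocallyOfFiniteType.jacobsonSpace (f.fiberToSpecResidueField y)
  have hfe : ∀ z, f (e z) = z := fun z => by rw [← Scheme.Hom.comp_apply, he]; rfl
  have h1 : f.fiberι y ⁻¹' {e y} = f.fiberι y ⁻¹' Set.range e := by
    ext z
    refine ⟨fun hz => ⟨y, (Set.mem_singleton_iff.1 hz).symm⟩, fun ⟨w, hw⟩ => ?_⟩
    have h2 : f.fiberι y z ∈ f ⁻¹' {y} := by rw [← f.range_fiberι]; exact ⟨z, rfl⟩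
    rw [Set.mem_preimage, ← hw, hfe, Set.mem_singleton_iff] at h2
    rw [Set.mem_preimage, ← hw, h2]; rfl
  obtain ⟨z, hz⟩ : e y ∈ Set.range (f.fiberι y) := by rw [f.range_fiberι]; exact hfe y
  have h3 : f.fiberι y ⁻¹' {e y} = {z} := by
    ext z'
    exact ⟨fun hz' => (f.fiberι y).isEmbedding.injective ((Set.mem_singleton_iff.1 hz').trans hz.symm),
      fun hz' => (congrArg _ (Set.mem_singleton_iff.1 hz')).trans hz⟩
  rw [h3]
  refine isClosed_singleton_of_isLocallyClosed_singleton ?_
  rw [← h3, h1]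
  exact e.isLocallyClosed_range.preimage (f.fiberι y).continuous

variable {S : Scheme.{u}} (G : Grpd.GroupoidScheme S)
  [LocallyOfFiniteType G.s] [LocallyOfFiniteType G.t] (u : G.U)
  [LocallyOfFiniteType (G.U.fromSpecResidueField u)]

/-- The groupoid of automorphisms of a point. -/
noncomputable abbrev ptGrpd : Grpd.GroupoidScheme S := GrpdSplit.rgrp G (G.U.fromSpecResidueField u)

instance isPreimmersion_rr : IsPreimmersion (GrpdSplit.rr G (G.U.fromSpecResidueField u)) := by
  haveI : IsPreimmersion (GrpdSplit.prodMap G (G.U.fromSpecResidueField u)) :=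
    MorphismProperty.pullbackMap (P := @IsPreimmersion) inferInstance inferInstance rfl rfl
  exact MorphismProperty.pullback_fst (P := @IsPreimmersion) _ _ inferInstance

instance lft_rr : LocallyOfFiniteType (GrpdSplit.rr G (G.U.fromSpecResidueField u)) := by
  haveI : LocallyOfFiniteType (GrpdSplit.prodMap G (G.U.fromSpecResidueField u)) :=
    MorphismProperty.pullbackMap (P := @LocallyOfFiniteType) inferInstance inferInstance rfl rfl
  exact MorphismProperty.pullback_fst (P := @LocallyOfFiniteType) _ _ inferInstance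

instance lft_ptGrpd_s : LocallyOfFiniteType (ptGrpd G u).s := by
  haveI : LocallyOfFiniteType (GrpdSplit.rs G (G.U.fromSpecResidueField u) ≫ G.U.fromSpecResidueField u) := by
    rw [← GrpdSplit.rr_s]; infer_instance
  exact locallyOfFiniteType_of_comp (GrpdSplit.rs G (G.U.fromSpecResidueField u)) (G.U.fromSpecResidueField u)

instance lft_ptGrpd_t : LocallyOfFiniteType (ptGrpd G u).t := by
  haveI : LocallyOfFiniteType (GrpdSplit.rt G (G.U.fromSpecResidueField u) ≫ G.U.fromSpecResidueField u) := by
    rw [← GrpdSplit.rr_t]; infer_instance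
  exact locallyOfFiniteType_of_comp (GrpdSplit.rt G (G.U.fromSpecResidueField u)) (G.U.fromSpecResidueField u)

omit [LocallyOfFiniteType G.s] [LocallyOfFiniteType G.t] [LocallyOfFiniteType (G.U.fromSpecResidueField u)] in
theorem range_rr : Set.range (GrpdSplit.rr G (G.U.fromSpecResidueField u)) =
    {r | G.s r = u ∧ G.t r = u} := by
  let ι := G.U.fromSpecResidueField u
  have hι : ∀ z, ι z = u := fun z => Scheme.fromSpecResidueField_apply u z
  ext r
  constructor
  · rintro ⟨z, rfl⟩
    exact ⟨(congr($(GrpdSplit.rr_s G ι) z)).trans (hι _), (congr($(GrpdSplit.rr_t G ι) z)).trans (hι _)⟩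
  · rintro ⟨hs, ht⟩
    have hj : G.j r ∈ Set.range (GrpdSplit.prodMap G ι) := by
      rw [GrpdSplit.prodMap, Scheme.Pullback.range_map]
      refine ⟨?_, ?_⟩
      · show pullback.fst G.pU G.pU (G.j r) ∈ Set.range ι
        rw [← Scheme.Hom.comp_apply, show G.j ≫ pullback.fst G.pU G.pU = G.t from pullback.lift_fst _ _ _, ht]
        exact ⟨closedPoint (G.U.residueField u), hι _⟩
      · show pullback.snd G.pU G.pU (G.j r) ∈ Set.range ι
        rw [← Scheme.Hom.comp_apply, show G.j ≫ pullback.snd G.pU G.pU = G.s from pullback.lift_snd _ _ _, hs]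
        exact ⟨closedPoint (G.U.residueField u), hι _⟩
    obtain ⟨z, hz⟩ := hj
    obtain ⟨w, hw, -⟩ := Scheme.Pullback.exists_preimage_pullback (f := G.j) (g := GrpdSplit.prodMap G ι) r z hz.symm
    exact ⟨w, hw⟩

omit [LocallyOfFiniteType G.s] [LocallyOfFiniteType G.t] in
theorem stab_fst_s : pullback.fst G.j G.diag ≫ G.s = pullback.snd G.j G.diag := by
  rw [← show G.j ≫ pullback.snd G.pU G.pU = G.s from pullback.lift_snd _ _ _, pullback.condition_assoc]
  show pullback.snd _ _ ≫ pullback.lift _ _ _ ≫ pullback.snd G.pU G.pU = _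
  rw [pullback.lift_snd, Category.comp_id]

omit [LocallyOfFiniteType G.s] [LocallyOfFiniteType G.t] in
theorem stab_fst_t : pullback.fst G.j G.diag ≫ G.t = pullback.snd G.j G.diag := by
  rw [← show G.j ≫ pullback.fst G.pU G.pU = G.t from pullback.lift_fst _ _ _, pullback.condition_assoc]
  show pullback.snd _ _ ≫ pullback.lift _ _ _ ≫ pullback.fst G.pU G.pU = _
  rw [pullback.lift_fst, Category.comp_id]

omit [LocallyOfFiniteType G.s] [LocallyOfFiniteType G.t] in
theorem isPreimmersion_stab_fst : IsPreimmersion (pullback.fst G.j G.diag) := by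
  haveI : IsPreimmersion G.diag := inferInstanceAs (IsPreimmersion (pullback.diagonal G.pU))
  infer_instance

/-- The dimension of the stabilizer is the dimension of the groupoid of automorphisms of the point. -/
theorem dim_ptGrpd : topologicalKrullDim ↥(G.stabilizerToU.fiber u) = topologicalKrullDim ↥(ptGrpd G u).R := by
  let ι := G.U.fromSpecResidueField u
  let H := ptGrpd G u
  let rr : H.R ⟶ G.R := GrpdSplit.rr G ι
  haveI hrr : IsPreimmersion rr := isPreimmersion_rr G u
  let π : G.stabilizer ⟶ G.R := pullback.fst G.j G.diag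
  haveI hπ : IsPreimmersion π := isPreimmersion_stab_fst G
  let a : G.stabilizerToU.fiber u ⟶ G.R := G.stabilizerToU.fiberι u ≫ π
  refine le_antisymm (topologicalKrullDim_le_of_range a a.isEmbedding rr rr.isEmbedding ?_) ?_
  · rintro _ ⟨z, rfl⟩
    refine (range_rr G u).ge ?_
    have hcond : G.stabilizerToU (G.stabilizerToU.fiberι u z) = u := by
      have : G.stabilizerToU.fiberι u z ∈ G.stabilizerToU ⁻¹' {u} := by
        rw [← G.stabilizerToU.range_fiberι]; exact ⟨z, rfl⟩
      exact this
    exact ⟨(congr($(stab_fst_s G) (G.stabilizerToU.fiberι u z))).trans hcond,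
      (congr($(stab_fst_t G) (G.stabilizerToU.fiberι u z))).trans hcond⟩
  · refine (S1883.result S H (G.U.residueField u) (Iso.refl _)).trans_le ?_
    let πH : H.stabilizer ⟶ H.R := pullback.fst H.j H.diag
    haveI hπH : IsPreimmersion πH := isPreimmersion_stab_fst H
    let b : H.stabilizer ⟶ G.R := πH ≫ rr
    refine topologicalKrullDim_le_of_range b b.isEmbedding a a.isEmbedding ?_
    let stU : H.stabilizer ⟶ Spec (G.U.residueField u) := H.stabilizerToU
    have hs : b ≫ G.s = stU ≫ ι :=
      ((Category.assoc πH rr G.s).trans (congrArg (fun f => πH ≫ f) (GrpdSplit.rr_s G ι))).trans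
        ((Category.assoc πH H.s ι).symm.trans (congrArg (fun f => f ≫ ι) (stab_fst_s H)))
    have ht : b ≫ G.t = stU ≫ ι :=
      ((Category.assoc πH rr G.t).trans (congrArg (fun f => πH ≫ f) (GrpdSplit.rr_t G ι))).trans
        ((Category.assoc πH H.t ι).symm.trans (congrArg (fun f => f ≫ ι) (stab_fst_t H)))
    let l : H.stabilizer ⟶ pullback G.j G.diag := pullback.lift b (stU ≫ ι) (by
      apply pullback.hom_ext
      · rw [Category.assoc b, Category.assoc (stU ≫ ι),
          show G.j ≫ pullback.fst G.pU G.pU = G.t from pullback.lift_fst _ _ _,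
          show G.diag ≫ pullback.fst G.pU G.pU = 𝟙 _ from pullback.lift_fst _ _ _, Category.comp_id]
        exact ht
      · rw [Category.assoc b, Category.assoc (stU ≫ ι),
          show G.j ≫ pullback.snd G.pU G.pU = G.s from pullback.lift_snd _ _ _,
          show G.diag ≫ pullback.snd G.pU G.pU = 𝟙 _ from pullback.lift_snd _ _ _, Category.comp_id]
        exact hs)
    rintro _ ⟨z, rfl⟩
    have hl : G.stabilizerToU (l z) = u :=
      (congr($(pullback.lift_snd b (stU ≫ ι) _) z)).trans (Scheme.fromSpecResidueField_apply u (stU z))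
    obtain ⟨w, hw⟩ : l z ∈ Set.range (G.stabilizerToU.fiberι u) := by rw [G.stabilizerToU.range_fiberι]; exact hl
    exact ⟨w, (congrArg π hw).trans (congr($(pullback.lift_fst b (stU ≫ ι) _) z))⟩

variable {U' : Scheme.{u}} (g : U' ⟶ G.U) (u' : U') (p : ↥(pullback g G.t))

/-- The fibre ring of the source at `p`. -/
noncomputable abbrev fibreIdeal : Ideal ((pullback g G.t).presheaf.stalk p) :=
  (maximalIdeal (G.U.presheaf.stalk (hMap G g p))).map ((hMap G g).stalkMap p).hom

/-- The points of the arrows corresponding to the fibre ring. -/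
noncomputable def fibrePts : Spec (CommRingCat.of ((pullback g G.t).presheaf.stalk p ⧸ fibreIdeal G g p)) ⟶ G.R :=
  Spec.map (CommRingCat.ofHom (Ideal.Quotient.mk (fibreIdeal G g p))) ≫ (pullback g G.t).fromSpecStalk p ≫
    pullback.snd g G.t

omit [LocallyOfFiniteType G.s] [LocallyOfFiniteType G.t] [LocallyOfFiniteType (G.U.fromSpecResidueField u)] in
theorem isEmbedding_fibrePts [IsImmersion g] : IsEmbedding (fibrePts G g p) := by
  haveI : IsImmersion (pullback.snd g G.t) := MorphismProperty.pullback_snd (P := @IsImmersion) _ _ inferInstance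
  haveI : IsClosedImmersion (Spec.map (CommRingCat.ofHom (Ideal.Quotient.mk (fibreIdeal G g p)))) :=
    IsClosedImmersion.spec_of_surjective _ Ideal.Quotient.mk_surjective
  haveI : IsPreimmersion (fibrePts G g p) := inferInstanceAs (IsPreimmersion (_ ≫ _ ≫ _))
  exact (fibrePts G g p).isEmbedding

variable {u u' p}

omit [LocallyOfFiniteType G.s] [LocallyOfFiniteType G.t] [LocallyOfFiniteType (G.U.fromSpecResidueField u)] in
theorem hMap_eq (hp1 : pullback.snd g G.t p = G.e u) : hMap G g p = u := by
  rw [hMap, Scheme.Hom.comp_apply, hp1, ← Scheme.Hom.comp_apply, G.e_s]; rfl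

theorem dim_le_fibre [IsImmersion g] (hgu : g u' = u) (hp0 : pullback.fst g G.t p = u')
    (hp1 : pullback.snd g G.t p = G.e u) :
    topologicalKrullDim ↥(G.stabilizerToU.fiber u) ≤
      ringKrullDim ((pullback g G.t).presheaf.stalk p ⧸ fibreIdeal G g p) := by
  rw [dim_ptGrpd]
  let ι := G.U.fromSpecResidueField u
  let H := ptGrpd G u
  let c : H.U := closedPoint (G.U.residueField u)
  let e₀ := H.e c
  have hrre : GrpdSplit.rr G ι e₀ = G.e u := by
    refine (congr($(GrpdSplit.rmk_rr G ι (ι ≫ G.e) (𝟙 _) (𝟙 _) (by simp [G.e_t]) (by simp [G.e_s])) c)).trans ?_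
    exact congrArg G.e (Scheme.fromSpecResidueField_apply u c)
  have hcl : IsClosed ({e₀} : Set H.R) := by
    haveI : IsImmersion (H.e ≫ H.s) := by rw [H.e_s]; infer_instance
    haveI : IsImmersion H.e := IsImmersion.of_comp H.e H.s
    haveI : LocallyOfFiniteType (H.s ≫ 𝟙 (Spec (G.U.residueField u))) := lft_ptGrpd_s G u
    haveI : JacobsonSpace H.U := inferInstanceAs (JacobsonSpace (Spec (G.U.residueField u)))
    haveI : JacobsonSpace H.R := LocallyOfFiniteType.jacobsonSpace H.s
    refine isClosed_singleton_of_isLocallyClosed_singleton ?_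
    have : Set.range H.e = {e₀} := by
      ext z
      constructor
      · rintro ⟨w, rfl⟩
        rw [show w = c from Subsingleton.elim (α := PrimeSpectrum (G.U.residueField u)) _ _]
        rfl
      · intro hz; exact ⟨c, (Set.mem_singleton_iff.1 hz).symm⟩
    rw [← this]
    exact H.e.isLocallyClosed_range
  rw [← S1887.result S H (G.U.residueField u) (Iso.refl _) e₀ hcl, ← topologicalKrullDim_Spec, ← topologicalKrullDim_Spec]
  let rr : H.R ⟶ G.R := GrpdSplit.rr G ι
  haveI : IsPreimmersion rr := isPreimmersion_rr G u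
  let ψ : Spec (H.R.presheaf.stalk e₀) ⟶ G.R := H.R.fromSpecStalk e₀ ≫ rr
  refine topologicalKrullDim_le_of_range ψ ψ.isEmbedding _ (isEmbedding_fibrePts G g p) ?_
  rintro _ ⟨P, rfl⟩
  let r := GrpdSplit.rr G ι (H.R.fromSpecStalk e₀ P)
  have hr : G.s r = u ∧ G.t r = u := (range_rr G u).le ⟨_, rfl⟩
  obtain ⟨q, hq0, hq1⟩ := Scheme.Pullback.exists_preimage_pullback (f := g) (g := G.t) u' r (hgu.trans hr.2.symm)
  haveI : IsImmersion (pullback.snd g G.t) := MorphismProperty.pullback_snd (P := @IsImmersion) _ _ inferInstance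
  have hqp : q ⤳ p := by
    refine (pullback.snd g G.t).isEmbedding.isInducing.specializes_iff.1 ?_
    rw [hq1, hp1, ← hrre]
    refine Specializes.map ?_ (GrpdSplit.rr G ι).continuous
    exact (Scheme.range_fromSpecStalk (X := H.R) (x := e₀)).le ⟨P, rfl⟩
  obtain ⟨Q, hQ⟩ : q ∈ Set.range ((pullback g G.t).fromSpecStalk p) := by rw [Scheme.range_fromSpecStalk]; exact hqp
  have hQI : fibreIdeal G g p ≤ Q.asIdeal := by
    rw [fibreIdeal, Ideal.map_le_iff_le_comap]
    have hh : hMap G g q = hMap G g p := by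
      rw [hMap_eq G g hp1, hMap, Scheme.Hom.comp_apply, hq1, hr.1]
    have h1 := (DimFormula.fromSpecStalk_stalkMap (hMap G g) p Q).trans ((congrArg (hMap G g) hQ).trans
      (hh.trans (Scheme.fromSpecStalk_closedPoint (X := G.U) (x := hMap G g p)).symm))
    exact (congrArg PrimeSpectrum.asIdeal ((G.U.fromSpecStalk (hMap G g p)).isEmbedding.injective h1)).ge
  obtain ⟨Q', hQ'⟩ : Q ∈ Set.range (Spec.map (CommRingCat.ofHom (Ideal.Quotient.mk (fibreIdeal G g p)))) := by
    erw [range_comap_of_surjective _ _ Ideal.Quotient.mk_surjective]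
    intro a ha
    exact hQI (Ideal.Quotient.eq_zero_iff_mem.1 ha)
  refine ⟨Q', ?_⟩
  show pullback.snd g G.t ((pullback g G.t).fromSpecStalk p (Spec.map _ Q')) = r
  rw [hQ', hQ, hq1]

theorem ringKrullDim_quotient_le [IsImmersion g] (hgu : g u' = u) (hp0 : pullback.fst g G.t p = u')
    (hp1 : pullback.snd g G.t p = G.e u)
    (Q : PrimeSpectrum ((pullback g G.t).presheaf.stalk p ⧸ fibreIdeal G g p))
    (hQ : pullback.fst g G.t ((pullback g G.t).fromSpecStalk p
      (Spec.map (CommRingCat.ofHom (Ideal.Quotient.mk (fibreIdeal G g p))) Q)) = u') :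
    ringKrullDim (((pullback g G.t).presheaf.stalk p ⧸ fibreIdeal G g p) ⧸ Q.asIdeal) ≤
      topologicalKrullDim ↥(G.stabilizerToU.fiber u) := by
  rw [dim_ptGrpd, ← topologicalKrullDim_Spec]
  let B := (pullback g G.t).presheaf.stalk p ⧸ fibreIdeal G g p
  let mk := Spec.map (CommRingCat.ofHom (Ideal.Quotient.mk Q.asIdeal : B →+* B ⧸ Q.asIdeal))
  haveI : IsClosedImmersion mk := IsClosedImmersion.spec_of_surjective _ Ideal.Quotient.mk_surjective
  haveI : IsPreimmersion (GrpdSplit.rr G (G.U.fromSpecResidueField u)) := isPreimmersion_rr G u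
  refine topologicalKrullDim_le_of_range (fibrePts G g p ∘ mk) ((isEmbedding_fibrePts G g p).comp mk.isEmbedding)
    _ (GrpdSplit.rr G (G.U.fromSpecResidueField u)).isEmbedding ?_
  rintro _ ⟨P, rfl⟩
  refine (range_rr G u).ge ?_
  let ζ := (pullback g G.t).fromSpecStalk p (Spec.map (CommRingCat.ofHom (Ideal.Quotient.mk (fibreIdeal G g p))) (mk P))
  show G.s (pullback.snd g G.t ζ) = u ∧ G.t (pullback.snd g G.t ζ) = u
  have hsp : ζ ⤳ p := (Scheme.range_fromSpecStalk (X := pullback g G.t) (x := p)).le ⟨_, rfl⟩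
  have hQP : Q ⤳ mk P := by
    refine (PrimeSpectrum.le_iff_specializes Q (mk P)).1 fun a ha => ?_
    show Ideal.Quotient.mk Q.asIdeal a ∈ P.asIdeal
    rw [Ideal.Quotient.eq_zero_iff_mem.2 ha]; exact zero_mem _
  have h1 := (hQP.map (Spec.map (CommRingCat.ofHom (Ideal.Quotient.mk (fibreIdeal G g p)))).continuous).map
    ((pullback g G.t).fromSpecStalk p).continuous |>.map (pullback.fst g G.t).continuous
  rw [hQ] at h1
  have h2 := hsp.map (pullback.fst g G.t).continuous
  rw [hp0] at h2
  have hζ : pullback.fst g G.t ζ = u' := (h2.antisymm h1).eq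
  refine ⟨?_, ?_⟩
  · let P₂ := Spec.map (CommRingCat.ofHom (Ideal.Quotient.mk (fibreIdeal G g p))) (mk P)
    have hP₂ : Spec.map ((hMap G g).stalkMap p) P₂ = closedPoint _ := by
      refine PrimeSpectrum.ext ((maximalIdeal.isMaximal _).eq_of_le ?_ ?_).symm
      · exact (PrimeSpectrum.comap ((hMap G g).stalkMap p).hom P₂).2.ne_top
      · refine Ideal.map_le_iff_le_comap.1 fun a ha => ?_
        show Ideal.Quotient.mk (fibreIdeal G g p) a ∈ (mk P).asIdeal
        rw [Ideal.Quotient.eq_zero_iff_mem.2 ha]; exact zero_mem _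
    calc G.s (pullback.snd g G.t ζ) = hMap G g ((pullback g G.t).fromSpecStalk p P₂) :=
          (Scheme.Hom.comp_apply _ _ _).symm
      _ = G.U.fromSpecStalk (hMap G g p) (Spec.map ((hMap G g).stalkMap p) P₂) :=
          (DimFormula.fromSpecStalk_stalkMap (hMap G g) p P₂).symm
      _ = u := by rw [hP₂, Scheme.fromSpecStalk_closedPoint, hMap_eq G g hp1]
  · rw [← Scheme.Hom.comp_apply, ← pullback.condition, Scheme.Hom.comp_apply, hζ, hgu]

omit [LocallyOfFiniteType G.t] [LocallyOfFiniteType (G.U.fromSpecResidueField u)] in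
theorem isClosed_asFiber [IsImmersion g] (hp1 : pullback.snd g G.t p = G.e u) :
    IsClosed ({(hMap G g).asFiber p} : Set ((hMap G g).fiber (hMap G g p))) := by
  haveI : IsImmersion (pullback.snd g G.t) := MorphismProperty.pullback_snd (P := @IsImmersion) _ _ inferInstance
  obtain ⟨C, hC, hCe⟩ := (G.s.fiberι u).isEmbedding.isInducing.isClosed_iff.1 (isClosed_section G.s G.e G.e_s u)
  have hh := hMap_eq G g hp1
  have key : ({(hMap G g).asFiber p} : Set ((hMap G g).fiber (hMap G g p))) =
      (fun z => pullback.snd g G.t ((hMap G g).fiberι (hMap G g p) z)) ⁻¹' C := by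
    ext z
    let q := (hMap G g).fiberι (hMap G g p) z
    have hq : G.s (pullback.snd g G.t q) = u := by
      have : q ∈ (hMap G g) ⁻¹' {hMap G g p} := by rw [← (hMap G g).range_fiberι]; exact ⟨z, rfl⟩
      rw [← Scheme.Hom.comp_apply]; exact (Set.mem_singleton_iff.1 this).trans hh
    obtain ⟨w, hw⟩ : pullback.snd g G.t q ∈ Set.range (G.s.fiberι u) := by rw [G.s.range_fiberι]; exact hq
    show _ ↔ pullback.snd g G.t q ∈ C
    rw [← hw, show G.s.fiberι u w ∈ C ↔ w ∈ G.s.fiberι u ⁻¹' C from Iff.rfl, hCe, Set.mem_preimage,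
      Set.mem_singleton_iff, Set.mem_singleton_iff, hw, ← hp1]
    exact ⟨fun hz => congrArg _ ((congrArg _ hz).trans ((hMap G g).fiberι_asFiber p)),
      fun hz => ((hMap G g).fiberι _).isEmbedding.injective
        (((pullback.snd g G.t).isEmbedding.injective hz).trans ((hMap G g).fiberι_asFiber p).symm)⟩
  rw [key]
  exact hC.preimage ((pullback.snd g G.t).continuous.comp ((hMap G g).fiberι _).continuous)

end Groth.Agent.GrpdSlice
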