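import Groth.Agent.GrpdSlice.CM
import Mathlib

/-!
Pulling back the hypersurface of a function, and Cohen–Macaulayness of hypersurfaces of Cohen–Macaulay morphisms.
-/

set_option autoImplicit false
set_option linter.style.haveILetI false

universe u

open CategoryTheory CategoryTheory.Limits AlgebraicGeometry IsLocalRing

namespace Groth.Agent.GrpdSlice

theorem germ_closedTo_congr {R : CommRingCat.{u}} [IsLocalRing R] {X : Scheme.{u}} {f f' : Spec R ⟶ X}
    (e : f = f') (V : X.Opens) (h : f (closedPoint R) ∈ V) :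
    X.presheaf.germ V _ h ≫ Scheme.stalkClosedPointTo f =
      X.presheaf.germ V _ (e ▸ h) ≫ Scheme.stalkClosedPointTo f' := by
  subst e; rfl

/-- The hypersurface of a function on an affine scheme. -/
noncomputable def hyper {U' : Scheme.{u}} [IsAffine U'] (f : Γ(U', ⊤)) :
    Spec (CommRingCat.of (Γ(U', ⊤) ⧸ Ideal.span {f})) ⟶ U' :=
  Spec.map (CommRingCat.ofHom (Ideal.Quotient.mk (Ideal.span {f}))) ≫ U'.isoSpec.inv

instance {U' : Scheme.{u}} [IsAffine U'] (f : Γ(U', ⊤)) : IsClosedImmersion (hyper f) := by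
  haveI : IsClosedImmersion (Spec.map (CommRingCat.ofHom (Ideal.Quotient.mk (Ideal.span {f})))) :=
    IsClosedImmersion.spec_of_surjective _ Ideal.Quotient.mk_surjective
  exact inferInstanceAs (IsClosedImmersion (_ ≫ _))

instance {U' : Scheme.{u}} [IsAffine U'] (f : Γ(U', ⊤)) : LocallyOfFinitePresentation (hyper f) := by
  haveI : LocallyOfFinitePresentation (Spec.map (CommRingCat.ofHom (Ideal.Quotient.mk (Ideal.span {f})))) :=
    (LocallyOfFinitePresentation.SpecMap_iff _).2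
      (RingHom.FinitePresentation.of_surjective _ Ideal.Quotient.mk_surjective
        (by rw [CommRingCat.hom_ofHom, Ideal.mk_ker]; exact Submodule.fg_span_singleton f))
  exact inferInstanceAs (LocallyOfFinitePresentation (_ ≫ _))

theorem hyper_appTop {U' : Scheme.{u}} [IsAffine U'] (f : Γ(U', ⊤)) : (hyper f).appTop f = 0 := by
  let Q := CommRingCat.of (Γ(U', ⊤) ⧸ Ideal.span {f})
  have h : (hyper f).appTop ≫ (Scheme.ΓSpecIso Q).hom = CommRingCat.ofHom (Ideal.Quotient.mk (Ideal.span {f})) := by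
    refine Spec.map_injective ?_
    rw [Spec.map_comp, SpecMap_ΓSpecIso_hom, ← Scheme.toSpecΓ_naturality, hyper, Category.assoc,
      show U'.isoSpec.inv ≫ U'.toSpecΓ = 𝟙 _ from U'.isoSpec.inv_hom_id]
    exact Category.comp_id _
  have h1 : (Scheme.ΓSpecIso Q).hom ((hyper f).appTop f) = 0 := by
    rw [← CommRingCat.comp_apply, h]
    exact Ideal.Quotient.eq_zero_iff_mem.2 (Ideal.mem_span_singleton_self f)
  exact (Scheme.ΓSpecIso Q).commRingCatIsoToRingEquiv.injective (h1.trans (map_zero _).symm)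

/-- The function cut out on a pullback of a hypersurface. -/
theorem exists_point {U' W W₂ : Scheme.{u}} [IsAffine U'] (f : Γ(U', ⊤)) (π : W ⟶ U') (i : W₂ ⟶ W)
    (π₂ : W₂ ⟶ Spec (CommRingCat.of (Γ(U', ⊤) ⧸ Ideal.span {f}))) (sq : IsPullback i π₂ π (hyper f)) (p : W)
    (hp : W.presheaf.germ ⊤ p trivial (π.appTop f) ∈ maximalIdeal (W.presheaf.stalk p)) :
    ∃ p₂ : W₂, i p₂ = p ∧ RingHom.ker (i.stalkMap p₂).hom =
      Ideal.span {W.presheaf.germ ⊤ (i p₂) trivial (π.appTop f)} := by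
  let φ := W.presheaf.germ ⊤ p trivial (π.appTop f)
  let mk := CommRingCat.ofHom (Ideal.Quotient.mk (Ideal.span {φ}))
  haveI hnt : Nontrivial (W.presheaf.stalk p ⧸ Ideal.span {φ}) := Ideal.Quotient.nontrivial_iff.2 fun h =>
    (maximalIdeal.isMaximal _).ne_top (top_le_iff.1 (h.ge.trans ((Ideal.span_singleton_le_iff_mem _).2 hp)))
  haveI : IsLocalRing (W.presheaf.stalk p ⧸ Ideal.span {φ}) := IsLocalRing.of_surjective' _ Ideal.Quotient.mk_surjective
  haveI : IsLocalHom mk.hom := IsLocalHom.of_surjective _ Ideal.Quotient.mk_surjective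
  let T := CommRingCat.of (W.presheaf.stalk p ⧸ Ideal.span {φ})
  haveI : IsLocalRing T := ‹IsLocalRing (W.presheaf.stalk p ⧸ Ideal.span {φ})›
  let a : Spec T ⟶ W := Spec.map mk ≫ W.fromSpecStalk p
  -- the map to the hypersurface
  let χ : Γ(U', ⊤) →+* W.presheaf.stalk p := (W.presheaf.germ ⊤ p trivial).hom.comp π.appTop.hom
  let ν : Γ(U', ⊤) ⧸ Ideal.span {f} →+* W.presheaf.stalk p ⧸ Ideal.span {φ} :=
    Ideal.quotientMap _ χ ((Ideal.span_singleton_le_iff_mem _).2 (Ideal.mem_span_singleton_self φ))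
  let b : Spec T ⟶ Spec (CommRingCat.of (Γ(U', ⊤) ⧸ Ideal.span {f})) := Spec.map (CommRingCat.ofHom ν)
  have hcomm : a ≫ π = b ≫ hyper f := by
    rw [← cancel_mono U'.isoSpec.hom]
    simp only [a, b, hyper, Category.assoc, Iso.inv_hom_id, Category.comp_id]
    rw [show U'.isoSpec.hom = U'.toSpecΓ from rfl, Scheme.toSpecΓ_naturality,
      reassoc_of% Scheme.fromSpecStalk_toSpecΓ W p, ← Spec.map_comp, ← Spec.map_comp, ← Spec.map_comp]
    congr 1
  let l : Spec T ⟶ W₂ := sq.lift a b hcomm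
  have hl : l ≫ i = a := sq.lift_fst _ _ _
  refine ⟨l (closedPoint T), ?_, le_antisymm ?_ ?_⟩
  · rw [← Scheme.Hom.comp_apply, hl, Scheme.Hom.comp_apply, Spec_closedPoint, Scheme.fromSpecStalk_closedPoint]
  · intro x hx
    obtain ⟨V, hV, s, rfl⟩ := W.presheaf.exists_germ_eq (x := i (l (closedPoint T))) x
    have h1 : Scheme.stalkClosedPointTo (l ≫ i) (W.presheaf.germ V _ hV s) = 0 := by
      rw [Scheme.stalkClosedPointTo_comp]
      show Scheme.stalkClosedPointTo l ((i.stalkMap (l (closedPoint T))).hom (W.presheaf.germ V _ hV s)) = 0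
      rw [RingHom.mem_ker.1 hx, map_zero]
    have h2 := congr($(germ_closedTo_congr hl V hV) s)
    have hVa : a (closedPoint T) ∈ V := hl ▸ hV
    have h3 := congr($(Scheme.germ_stalkClosedPointTo_Spec_fromSpecStalk (R := T) mk V hVa) s)
    have hca : a (closedPoint T) = p :=
      (Scheme.Hom.comp_apply _ _ _).trans
        ((congrArg (W.fromSpecStalk p) (Spec_closedPoint (f := mk))).trans Scheme.fromSpecStalk_closedPoint)
    have h4 : mk (W.presheaf.germ V p (hca ▸ hVa) s) = 0 :=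
      (h3.symm.trans (h2.symm.trans h1) : _)
    have h5 := Ideal.Quotient.eq_zero_iff_mem.1 h4
    have key : ∀ (P : W) (_ : P = p) (hP : P ∈ V),
        W.presheaf.germ V P hP s ∈ Ideal.span {W.presheaf.germ ⊤ P trivial (π.appTop f)} := by
      rintro P rfl hP
      exact h5
    exact key _ (by rw [← Scheme.Hom.comp_apply, hl, Scheme.Hom.comp_apply, Spec_closedPoint,
      Scheme.fromSpecStalk_closedPoint]) hV
  · rw [Ideal.span_le, Set.singleton_subset_iff, SetLike.mem_coe, RingHom.mem_ker]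
    show (i.stalkMap _) (W.presheaf.germ ⊤ _ trivial (π.appTop f)) = 0
    rw [Scheme.Hom.germ_stalkMap_apply]
    have h0 : i.appTop (π.appTop f) = 0 := by
      rw [← CommRingCat.comp_apply, ← Scheme.Hom.comp_appTop, sq.w, Scheme.Hom.comp_appTop, CommRingCat.comp_apply,
        hyper_appTop, map_zero]
    exact (congrArg (W₂.presheaf.germ (i ⁻¹ᵁ ⊤) (l (closedPoint T)) trivial) h0).trans (map_zero _)

/-- Local criterion: a function regular on the fibre ring cuts out a flat quotient. -/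
theorem flat_quotient_of_regular {X Y : Scheme.{u}} (f : X ⟶ Y) [LocallyOfFinitePresentation f] (x : X)
    (hflat : (f.stalkMap x).hom.Flat) (φ : X.presheaf.stalk x)
    (hreg : RingTheory.Sequence.IsWeaklyRegular
      (X.presheaf.stalk x ⧸ (maximalIdeal (Y.presheaf.stalk (f x))).map (f.stalkMap x).hom)
      ([φ].map (Ideal.Quotient.mk ((maximalIdeal (Y.presheaf.stalk (f x))).map (f.stalkMap x).hom)))) :
    ((Ideal.Quotient.mk (Ideal.span {φ})).comp (f.stalkMap x).hom).Flat := by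
  obtain ⟨V, hV, hyV, -⟩ := exists_isAffineOpen_mem_and_subset (X := Y) (x := f x) (U := ⊤) trivial
  obtain ⟨U₀, hxU₀, l₀, hl₀⟩ := InjFibre.exists_lifts x [φ]
  obtain ⟨W, hW, hxW, hWU⟩ := exists_isAffineOpen_mem_and_subset (X := X) (x := x) (U := U₀ ⊓ f ⁻¹ᵁ V) ⟨hxU₀, hyV⟩
  have hWU₀ : W ≤ U₀ := fun y hy => (hWU hy).1
  have eW : W ≤ f ⁻¹ᵁ V := fun y hy => (hWU hy).2
  let fs : List Γ(X, W) := l₀.map (X.presheaf.map (homOfLE hWU₀).op)
  have hfs : fs.map (X.presheaf.germ W x hxW).hom = [φ] := by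
    rw [← hl₀, List.map_map]
    exact List.map_congr_left fun a _ => TopCat.Presheaf.germ_res_apply _ _ _ _ _
  let A := ↑(Y.presheaf.stalk (f x))
  let B := ↑(X.presheaf.stalk x)
  letI : Algebra Γ(Y, V) Γ(X, W) := (f.appLE V W eW).hom.toAlgebra
  haveI : Algebra.FinitePresentation Γ(Y, V) Γ(X, W) := f.finitePresentation_appLE hV hW eW
  letI : Algebra Γ(Y, V) B := ((f.stalkMap x).hom.comp (Y.presheaf.germ V (f x) (eW hxW)).hom).toAlgebra
  letI : Algebra A B := (f.stalkMap x).hom.toAlgebra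
  letI := TopCat.Presheaf.algebra_section_stalk Y.presheaf (⟨f x, eW hxW⟩ : V)
  letI := TopCat.Presheaf.algebra_section_stalk X.presheaf (⟨x, hxW⟩ : W)
  haveI : IsLocalization.AtPrime B (hW.primeIdealOf ⟨x, hxW⟩).asIdeal := hW.isLocalization_stalk ⟨x, hxW⟩
  haveI hlA : IsLocalization.AtPrime A (hV.primeIdealOf ⟨f x, eW hxW⟩).asIdeal :=
    hV.isLocalization_stalk ⟨f x, eW hxW⟩
  haveI : IsScalarTower Γ(Y, V) Γ(X, W) B :=
    IsScalarTower.of_algebraMap_eq fun a => FibCrit.germ_comm f V W eW x hxW a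
  haveI : IsScalarTower Γ(Y, V) A B := IsScalarTower.of_algebraMap_eq fun a => rfl
  haveI : Module.Flat A B := hflat
  haveI : Module.Flat Γ(Y, V) A := IsLocalization.flat A (hV.primeIdealOf ⟨f x, eW hxW⟩).asIdeal.primeCompl
  haveI : Module.Flat Γ(Y, V) B := Module.Flat.trans Γ(Y, V) A B
  have hJ : ((hW.primeIdealOf ⟨x, hxW⟩).asIdeal.comap (algebraMap Γ(Y, V) Γ(X, W))).map (algebraMap Γ(Y, V) B) =
      Ideal.map (f.stalkMap x).hom (IsLocalRing.maximalIdeal A) := by
    rw [show (hW.primeIdealOf ⟨x, hxW⟩).asIdeal.comap (algebraMap Γ(Y, V) Γ(X, W)) =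
        (hV.primeIdealOf ⟨f x, eW hxW⟩).asIdeal from
      congrArg PrimeSpectrum.asIdeal (IsAffineOpen.comap_primeIdealOf_appLE V hV W hW eW hxW),
      IsScalarTower.algebraMap_eq Γ(Y, V) A B, ← Ideal.map_map,
      IsLocalization.AtPrime.map_eq_maximalIdeal (hV.primeIdealOf ⟨f x, eW hxW⟩).asIdeal A]
    rfl
  have hfs' : fs.map (algebraMap Γ(X, W) B) = [φ] := by
    refine Eq.trans ?_ hfs
    rfl
  have hq : InjFibre.SeqAt Γ(Y, V) fs (hW.primeIdealOf ⟨x, hxW⟩) := by
    refine InjFibre.seqAt_of_fibre (hW.primeIdealOf ⟨x, hxW⟩) B fs ?_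
    rw [hJ]
    have h' : RingTheory.Sequence.IsWeaklyRegular
        (B ⧸ Ideal.map (f.stalkMap x).hom (IsLocalRing.maximalIdeal A)) [φ] := by
      rw [← RingTheory.Sequence.isWeaklyRegular_map_algebraMap_iff
        (S := B ⧸ Ideal.map (f.stalkMap x).hom (IsLocalRing.maximalIdeal A))]
      exact hreg
    convert h' using 1
  have h2 := ((InjFibre.seqAt_iff fs (hW.primeIdealOf ⟨x, hxW⟩) B).1 hq).2 1
    (by rw [show fs.length = (fs.map (X.presheaf.germ W x hxW).hom).length from (List.length_map _).symm, hfs]; simp)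
  rw [hfs'] at h2
  have e : Ideal.ofList ([φ].take 1) = Ideal.span {φ} := by simp
  rw [e] at h2
  haveI := h2
  show Module.Flat A (B ⧸ Ideal.span {φ})
  exact (Module.flat_iff_of_isLocalization A (hV.primeIdealOf ⟨f x, eW hxW⟩).asIdeal.primeCompl _).2 h2

/-- A function that is regular on the fibre ring cuts out a Cohen–Macaulay morphism with the fibre dimension
one less. -/
theorem cm_of_ker {X Y Z : Scheme.{u}} (f : X ⟶ Y) [LocallyOfFinitePresentation f] (i : Z ⟶ X)
    [IsClosedImmersion i] (z : Z) (hcm : Grpd.IsCMAt f (i z)) (φ : X.presheaf.stalk (i z))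
    (hker : RingHom.ker (i.stalkMap z).hom = Ideal.span {φ}) (hφ : φ ∈ maximalIdeal (X.presheaf.stalk (i z)))
    (hreg : IsSMulRegular (X.presheaf.stalk (i z) ⧸
      (maximalIdeal (Y.presheaf.stalk (f (i z)))).map (f.stalkMap (i z)).hom) (Ideal.Quotient.mk
        ((maximalIdeal (Y.presheaf.stalk (f (i z)))).map (f.stalkMap (i z)).hom) φ))
    {n : ℕ} (hn : ringKrullDim (X.presheaf.stalk (i z) ⧸
      (maximalIdeal (Y.presheaf.stalk (f (i z)))).map (f.stalkMap (i z)).hom) = ((n + 1 : ℕ) : WithBot ℕ∞)) :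
    Grpd.IsCMAt (i ≫ f) z ∧ ringKrullDim (Z.presheaf.stalk z ⧸
      (maximalIdeal (Y.presheaf.stalk ((i ≫ f) z))).map ((i ≫ f).stalkMap z).hom) = (n : WithBot ℕ∞) := by
  let B := X.presheaf.stalk (i z)
  let A := Y.presheaf.stalk (f (i z))
  let I : Ideal B := (maximalIdeal A).map (f.stalkMap (i z)).hom
  have hsurj : Function.Surjective (i.stalkMap z).hom := i.stalkMap_surjective z
  haveI : IsLocalHom (f.stalkMap (i z)).hom := inferInstance
  have hI : I ≤ maximalIdeal B :=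
    Ideal.map_le_iff_le_comap.2 fun a ha => map_nonunit (f.stalkMap (i z)).hom a ha
  haveI : Nontrivial (B ⧸ I) := Ideal.Quotient.nontrivial_iff.2 fun h =>
    (maximalIdeal.isMaximal B).ne_top (top_le_iff.1 (h.ge.trans hI))
  haveI : IsLocalHom (Ideal.Quotient.mk I) := IsLocalHom.of_surjective _ Ideal.Quotient.mk_surjective
  haveI : LocCoh.IsCohenMacaulayLocalRing (B ⧸ I) := hcm.2
  obtain ⟨hcmq, hdimq⟩ := CMFlat.isCohenMacaulayLocalRing_quotient (B ⧸ I)
    (map_nonunit (Ideal.Quotient.mk I) φ hφ) hreg hn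
  -- flatness
  have hflat' : ((Ideal.Quotient.mk (Ideal.span {φ})).comp (f.stalkMap (i z)).hom).Flat := by
    refine flat_quotient_of_regular f (i z) hcm.1 φ ?_
    rw [List.map_cons, List.map_nil]
    exact RingTheory.Sequence.IsWeaklyRegular.cons hreg (RingTheory.Sequence.IsWeaklyRegular.nil _ _)
  let e := (Ideal.quotEquivOfEq hker.symm).trans (RingHom.quotientKerEquivOfSurjective hsurj)
  have hstalk : ((i ≫ f).stalkMap z).hom = (e.toRingHom).comp ((Ideal.Quotient.mk _).comp (f.stalkMap (i z)).hom) := by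
    rw [Scheme.Hom.stalkMap_comp]; rfl
  have hF : ((i ≫ f).stalkMap z).hom.Flat := by
    rw [hstalk]
    exact RingHom.Flat.comp hflat' (RingHom.Flat.of_bijective e.bijective)
  let J := (maximalIdeal (Y.presheaf.stalk ((i ≫ f) z))).map ((i ≫ f).stalkMap z).hom
  have hJ : J = (I.map (Ideal.Quotient.mk (Ideal.span {φ}))).map e.toRingHom := by
    simp only [J, hstalk]
    rw [Ideal.map_map, Ideal.map_map]
    rfl
  let e₂ : ((B ⧸ I) ⧸ Ideal.span {Ideal.Quotient.mk I φ}) ≃+* (Z.presheaf.stalk z ⧸ J) :=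
    ((Ideal.quotEquivOfEq (by rw [Ideal.map_span, Set.image_singleton])).trans
      (DoubleQuot.quotQuotEquivComm I (Ideal.span {φ}))).trans (Ideal.quotientEquiv _ _ e hJ)
  exact ⟨⟨hF, CMChart.isCohenMacaulayLocalRing_of_ringEquiv e₂ hcmq⟩,
    (ringKrullDim_eq_of_ringEquiv e₂).symm.trans hdimq⟩

end Groth.Agent.GrpdSlice
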