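import Groth.Agent.GrpdSlice.Hyper
import Groth.Agent.GrpdSlice.Dim
import Groth.Agent.SepAffine.Alg
import Mathlib

/-!
One step in cutting down a slice of a groupoid.
-/

set_option autoImplicit false
set_option linter.style.haveILetI false

universe u

open CategoryTheory CategoryTheory.Limits AlgebraicGeometry IsLocalRing Topology
open Groth.Agent Groth.Agent.DimFormula

namespace Groth.Agent.GrpdSlice

variable {S : Scheme.{u}} (G : Grpd.GroupoidScheme S)
  [LocallyOfFinitePresentation G.s] [LocallyOfFinitePresentation G.t] (u : G.U)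
  [LocallyOfFiniteType (G.U.fromSpecResidueField u)]

/-- A function on the slice vanishing at the point and regular on the fibre ring of the source. -/
theorem exists_function {U' : Scheme.{u}} [IsAffine U'] (g : U' ⟶ G.U) [IsImmersion g]
    [LocallyOfFinitePresentation g] {u' : U'} {p : ↥(pullback g G.t)} (hgu : g u' = u)
    (hp0 : pullback.fst g G.t p = u') (hp1 : pullback.snd g G.t p = G.e u) (hcm : Grpd.IsCMAt (hMap G g) p)
    (hd : topologicalKrullDim ↥(G.stabilizerToU.fiber u) < FlatMor.fibreDimAt (hMap G g) p) :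
    ∃ (f : Γ(U', ⊤)) (n : ℕ),
      (pullback g G.t).presheaf.germ ⊤ p trivial ((pullback.fst g G.t).appTop f) ∈
          maximalIdeal ((pullback g G.t).presheaf.stalk p) ∧
        IsSMulRegular ((pullback g G.t).presheaf.stalk p ⧸ fibreIdeal G g p)
          (Ideal.Quotient.mk (fibreIdeal G g p)
            ((pullback g G.t).presheaf.germ ⊤ p trivial ((pullback.fst g G.t).appTop f))) ∧
        ringKrullDim ((pullback g G.t).presheaf.stalk p ⧸ fibreIdeal G g p) = ((n + 1 : ℕ) : WithBot ℕ∞) := by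
  classical
  haveI : IsImmersion (pullback.snd g G.t) := MorphismProperty.pullback_snd (P := @IsImmersion) _ _ inferInstance
  haveI : LocallyOfFiniteType (pullback.snd g G.t) :=
    MorphismProperty.pullback_snd (P := @LocallyOfFiniteType) _ _ inferInstance
  haveI : LocallyOfFiniteType (hMap G g) := inferInstanceAs (LocallyOfFiniteType (_ ≫ _))
  let B := (pullback g G.t).presheaf.stalk p ⧸ fibreIdeal G g p
  haveI hB : LocCoh.IsCohenMacaulayLocalRing B := hcm.2
  let mk : (pullback g G.t).presheaf.stalk p →+* B := Ideal.Quotient.mk (fibreIdeal G g p)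
  haveI : IsLocalHom mk := IsLocalHom.of_surjective _ Ideal.Quotient.mk_surjective
  obtain ⟨n, hn⟩ := SerreReg.exists_dim_nat B
  have hfd : FlatMor.fibreDimAt (hMap G g) p = (n : WithBot ℕ∞) :=
    (fibreDimAt_eq_ringKrullDim (hMap G g) p (isClosed_asFiber G g hp1)).trans hn
  rw [hfd] at hd
  let θ : Spec (CommRingCat.of B) ⟶ U' :=
    Spec.map (CommRingCat.ofHom mk) ≫ (pullback g G.t).fromSpecStalk p ≫ pullback.fst g G.t
  let χ : Γ(U', ⊤) →+* B :=
    mk.comp (((pullback g G.t).presheaf.germ ⊤ p trivial).hom.comp (pullback.fst g G.t).appTop.hom)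
  have hθ : θ ≫ U'.toSpecΓ = Spec.map (CommRingCat.ofHom χ) := by
    simp only [θ, Category.assoc]
    rw [Scheme.toSpecΓ_naturality, reassoc_of% Scheme.fromSpecStalk_toSpecΓ (pullback g G.t) p, ← Spec.map_comp,
      ← Spec.map_comp]
    congr 1
  have hθp : ∀ Q, θ Q ⤳ u' := fun Q => hp0 ▸
    ((Scheme.range_fromSpecStalk (X := pullback g G.t) (x := p)).le
      ⟨Spec.map (CommRingCat.ofHom mk) Q, rfl⟩ :
        (pullback g G.t).fromSpecStalk p (Spec.map (CommRingCat.ofHom mk) Q) ⤳ p).map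
      (pullback.fst g G.t).continuous
  have hθc : θ (closedPoint B) = u' := by
    show pullback.fst g G.t ((pullback g G.t).fromSpecStalk p (Spec.map (CommRingCat.ofHom mk) (closedPoint B))) = u'
    rw [show Spec.map (CommRingCat.ofHom mk) (closedPoint B) = closedPoint _ from
      IsLocalRing.comap_closedPoint mk, Scheme.fromSpecStalk_closedPoint, hp0]
  have h0 : (0 : WithBot ℕ∞) ≤ topologicalKrullDim ↥(G.stabilizerToU.fiber u) := by
    haveI : Nontrivial (B ⧸ (closedPoint B).asIdeal) :=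
      Ideal.Quotient.nontrivial_iff.2 (closedPoint B).2.ne_top
    exact ringKrullDim_nonneg_of_nontrivial.trans
      (ringKrullDim_quotient_le G g hgu hp0 hp1 (closedPoint B) hθc)
  obtain ⟨n, rfl⟩ : ∃ m, n = m + 1 := by
    cases n with
    | zero => exact absurd hd (not_lt.2 (by simpa using h0))
    | succ m => exact ⟨m, rfl⟩
  let 𝔭 : Ideal Γ(U', ⊤) := (U'.toSpecΓ u').asIdeal
  have hass : ∀ Q ∈ associatedPrimes B B, ¬ 𝔭 ≤ Q.comap χ := by
    intro Q hQ hle
    haveI := IsAssociatedPrime.isPrime hQ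
    let Q₀ : PrimeSpectrum B := ⟨Q, inferInstance⟩
    have h1 : U'.toSpecΓ u' ⤳ U'.toSpecΓ (θ Q₀) := by
      rw [← Scheme.Hom.comp_apply, hθ]
      exact (PrimeSpectrum.le_iff_specializes (U'.toSpecΓ u') (PrimeSpectrum.comap χ Q₀)).1 hle
    have h2 : θ Q₀ = u' :=
      ((hθp Q₀).antisymm (U'.isoSpec.hom.isEmbedding.isInducing.specializes_iff.1 h1)).eq
    have h3 := (CMSop.le_ringKrullDim_quotient_of_hasRegSeq (n + 1) inferInstance
      (CMFlat.hasRegSeq_of_cm hn) Q hQ).trans (ringKrullDim_quotient_le G g hgu hp0 hp1 Q₀ h2)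
    exact absurd hd (not_lt.2 h3)
  obtain ⟨f, hf, hfT⟩ := SepAffine.exists_mem_avoid 𝔭
    ((associatedPrimes.finite B B).toFinset.image fun Q => Q.comap χ)
    (fun q hq => by
      obtain ⟨Q, hQ, rfl⟩ := Finset.mem_image.1 hq
      haveI := IsAssociatedPrime.isPrime ((associatedPrimes.finite B B).mem_toFinset.1 hQ)
      exact Ideal.comap_isPrime χ Q)
    (fun q hq => by
      obtain ⟨Q, hQ, rfl⟩ := Finset.mem_image.1 hq
      exact hass Q ((associatedPrimes.finite B B).mem_toFinset.1 hQ))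
  refine ⟨f, n, ?_, ?_, hn⟩
  · have h1 : (U'.toSpecΓ u') = PrimeSpectrum.comap χ (closedPoint B) := by
      rw [← hθc, ← Scheme.Hom.comp_apply, hθ]; rfl
    have h2 : χ f ∈ maximalIdeal B := (congrArg PrimeSpectrum.asIdeal h1).le hf
    exact fun hu => h2 (hu.map mk)
  · have h1 : χ f ∉ ⋃ Q ∈ associatedPrimes B B, (Q : Set B) := by
      simp only [Set.mem_iUnion, not_exists]
      exact fun Q hQ hmem => hfT _ (Finset.mem_image.2 ⟨Q, (associatedPrimes.finite B B).mem_toFinset.2 hQ, rfl⟩) hmem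
    rw [biUnion_associatedPrimes_eq_compl_regular] at h1
    simpa [χ, mk, B] using h1

/-- One step of the slicing: cut by a hypersurface, lowering the fibre dimension by one. -/
theorem step {U' : Scheme.{u}} [IsAffine U'] (g : U' ⟶ G.U) [IsImmersion g]
    [LocallyOfFinitePresentation g] {u' : U'} {p : ↥(pullback g G.t)} (hgu : g u' = u)
    (hp0 : pullback.fst g G.t p = u') (hp1 : pullback.snd g G.t p = G.e u) (hcm : Grpd.IsCMAt (hMap G g) p)
    (hd : topologicalKrullDim ↥(G.stabilizerToU.fiber u) < FlatMor.fibreDimAt (hMap G g) p) :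
    ∃ (U₂ : Scheme.{u}) (_ : IsAffine U₂) (g₂ : U₂ ⟶ G.U) (u₂ : U₂) (p₂ : ↥(pullback g₂ G.t)),
      IsImmersion g₂ ∧ LocallyOfFinitePresentation g₂ ∧ g₂ u₂ = u ∧ pullback.fst g₂ G.t p₂ = u₂ ∧
      pullback.snd g₂ G.t p₂ = G.e u ∧ Grpd.IsCMAt (hMap G g₂) p₂ ∧
      FlatMor.fibreDimAt (hMap G g₂) p₂ + 1 = FlatMor.fibreDimAt (hMap G g) p := by
  obtain ⟨f, n, hφ, hreg, hn⟩ := exists_function G u g hgu hp0 hp1 hcm hd
  haveI : IsImmersion (pullback.snd g G.t) := MorphismProperty.pullback_snd (P := @IsImmersion) _ _ inferInstance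
  haveI : LocallyOfFinitePresentation (pullback.snd g G.t) :=
    MorphismProperty.pullback_snd (P := @LocallyOfFinitePresentation) _ _ inferInstance
  haveI : LocallyOfFinitePresentation (hMap G g) := inferInstanceAs (LocallyOfFinitePresentation (_ ≫ _))
  let U₂ := Spec (CommRingCat.of (Γ(U', ⊤) ⧸ Ideal.span {f}))
  let g₂ : U₂ ⟶ G.U := hyper f ≫ g
  let i : pullback g₂ G.t ⟶ pullback g G.t :=
    pullback.lift (pullback.fst g₂ G.t ≫ hyper f) (pullback.snd g₂ G.t)
      (by rw [Category.assoc]; exact pullback.condition)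
  have hi2 : i ≫ pullback.snd g G.t = pullback.snd g₂ G.t := pullback.lift_snd _ _ _
  have sq : IsPullback i (pullback.fst g₂ G.t) (pullback.fst g G.t) (hyper f) := by
    refine IsPullback.of_right ?_ (pullback.lift_fst _ _ _) (IsPullback.of_hasPullback g G.t).flip
    rw [hi2]
    exact (IsPullback.of_hasPullback g₂ G.t).flip
  haveI : IsClosedImmersion i := MorphismProperty.of_isPullback sq.flip inferInstance
  haveI : IsImmersion (pullback.snd g₂ G.t) := MorphismProperty.pullback_snd (P := @IsImmersion) _ _ inferInstance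
  haveI : LocallyOfFinitePresentation (pullback.snd g₂ G.t) :=
    MorphismProperty.pullback_snd (P := @LocallyOfFinitePresentation) _ _ inferInstance
  haveI : LocallyOfFinitePresentation (hMap G g₂) := inferInstanceAs (LocallyOfFinitePresentation (_ ≫ _))
  obtain ⟨p₂, rfl, hker⟩ := exists_point f (pullback.fst g G.t) i (pullback.fst g₂ G.t) sq p hφ
  obtain ⟨hcm₂, hdim₂⟩ := cm_of_ker (hMap G g) i p₂ hcm _ hker hφ hreg hn
  have hh : i ≫ hMap G g = hMap G g₂ := by rw [hMap, hMap, ← Category.assoc, hi2]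
  have hq1 : pullback.snd g₂ G.t p₂ = G.e u := (congr($hi2 p₂)).symm.trans hp1
  have hgu₂ : g₂ (pullback.fst g₂ G.t p₂) = u := by
    show g (hyper f (pullback.fst g₂ G.t p₂)) = u
    rw [← Scheme.Hom.comp_apply (pullback.fst g₂ G.t), ← sq.w, Scheme.Hom.comp_apply, hp0, hgu]
  refine ⟨U₂, inferInstance, g₂, pullback.fst g₂ G.t p₂, p₂, inferInstance, inferInstance, hgu₂, rfl, hq1,
    hh ▸ hcm₂, ?_⟩
  rw [fibreDimAt_eq_ringKrullDim _ (i p₂) (isClosed_asFiber G g hp1), hn]
  revert hdim₂
  rw [hh]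
  intro hdim₂
  rw [fibreDimAt_eq_ringKrullDim _ p₂ (isClosed_asFiber G g₂ hq1), hdim₂]
  push_cast
  rfl

end Groth.Agent.GrpdSlice
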