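import Groth.Agent.GrpdSlice.CM
import Groth.Agent.Grpd.Comp7457
import Groth.Agent.Grpd.Inverse
import Mathlib

/-!
Right translation on `U' ×_{g,U,t} R` along the fibres of the projection to `U'`.
-/

set_option autoImplicit false
set_option linter.style.haveILetI false

universe u

open CategoryTheory CategoryTheory.Limits AlgebraicGeometry

namespace Groth.Agent.GrpdSlice

variable {S : Scheme.{u}} (G : Grpd.GroupoidScheme S) {U' : Scheme.{u}} (g : U' ⟶ G.U)

/-- The source on `U' ×_{g,U,t} R`. -/
noncomputable abbrev hMap : pullback g G.t ⟶ G.U := pullback.snd g G.t ≫ G.s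

lemma c_t : G.c ≫ G.t = pullback.fst G.s G.t ≫ G.t := by
  have h := G.comp_t (pullback.fst G.s G.t) (pullback.snd G.s G.t) pullback.condition
  rwa [show pullback.lift (pullback.fst G.s G.t) (pullback.snd G.s G.t) pullback.condition = 𝟙 _ from
    pullback.hom_ext (by simp) (by simp), Category.id_comp] at h

/-- Composable pairs over `U'`. -/
noncomputable def pairs : pullback (hMap G g) G.t ⟶ pullback G.s G.t :=
  pullback.map _ _ _ _ (pullback.snd g G.t) (𝟙 _) (𝟙 _) (by simp) (by simp)

lemma pairs_fst : pairs G g ≫ pullback.fst G.s G.t = pullback.fst (hMap G g) G.t ≫ pullback.snd g G.t :=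
  pullback.lift_fst _ _ _

lemma pairs_snd : pairs G g ≫ pullback.snd G.s G.t = pullback.snd (hMap G g) G.t :=
  (pullback.lift_snd _ _ _).trans (Category.comp_id _)

/-- Composition with an arrow. -/
noncomputable def mul : pullback (hMap G g) G.t ⟶ pullback g G.t :=
  pullback.lift (pullback.fst (hMap G g) G.t ≫ pullback.fst g G.t) (pairs G g ≫ G.c) (by
    rw [Category.assoc, Category.assoc, c_t, ← Category.assoc (pairs G g), pairs_fst, Category.assoc,
      pullback.condition])

theorem isPullback_mul : IsPullback (mul G g) (pullback.snd (hMap G g) G.t) (hMap G g) G.s := by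
  have sqA : IsPullback (pairs G g) (pullback.fst (hMap G g) G.t) (pullback.fst G.s G.t) (pullback.snd g G.t) := by
    refine IsPullback.of_right ?_ (pairs_fst G g) (IsPullback.of_hasPullback G.s G.t).flip
    have := (IsPullback.of_hasPullback (hMap G g) G.t).flip
    rwa [← pairs_snd G g] at this
  have sqB : IsPullback (pairs G g) (pullback.fst (hMap G g) G.t ≫ pullback.fst g G.t)
      (pullback.fst G.s G.t ≫ G.t) g := sqA.paste_vert (IsPullback.of_hasPullback g G.t).flip
  have sqC : IsPullback (pairs G g) (mul G g) G.c (pullback.snd g G.t) := by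
    refine IsPullback.of_bot ?_ ?_ (IsPullback.of_hasPullback g G.t).flip
    · rw [c_t, show mul G g ≫ pullback.fst g G.t = _ from pullback.lift_fst _ _ _]
      exact sqB
    · exact (pullback.lift_snd _ _ _).symm
  have := sqC.paste_horiz (GrpdLib.comp_isPullback G).2.flip
  rw [pairs_snd] at this
  exact this.flip

/-- Two points of `U' ×_{g,U,t} R` over the same point of `U'` differ by a translation. -/
theorem exists_translate (q₀ q : ↥(pullback g G.t)) (h : pullback.fst g G.t q₀ = pullback.fst g G.t q) :
    ∃ z, pullback.fst (hMap G g) G.t z = q₀ ∧ mul G g z = q := by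
  obtain ⟨w, hw₁, hw₂⟩ := Scheme.Pullback.exists_preimage_pullback (f := pullback.fst g G.t)
    (g := pullback.fst g G.t) q₀ q h
  let ξ : pullback (pullback.fst g G.t) (pullback.fst g G.t) ⟶ pullback G.t G.t :=
    pullback.map _ _ _ _ (pullback.snd g G.t) (pullback.snd g G.t) g pullback.condition pullback.condition
  let φ : pullback G.t G.t ⟶ pullback G.s G.t :=
    pullback.lift (pullback.fst G.t G.t) (pullback.lift (pullback.fst G.t G.t ≫ G.i) (pullback.snd G.t G.t)
      ((Category.assoc _ _ _).trans
        ((congrArg (fun x => pullback.fst G.t G.t ≫ x) G.i_s).trans pullback.condition)) ≫ G.c)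
      (by rw [G.comp_t, Category.assoc, G.i_t])
  obtain ⟨-, hφc⟩ := (GrpdLib.comp_isPullback G).1 φ (pullback.lift_fst _ _ _) (pullback.lift_snd _ _ _)
  let θ : pullback (pullback.fst g G.t) (pullback.fst g G.t) ⟶ pullback (hMap G g) G.t :=
    pullback.lift (pullback.fst _ _) ((ξ ≫ φ) ≫ pullback.snd G.s G.t) (by
      rw [Category.assoc (ξ ≫ φ), ← pullback.condition (f := G.s), Category.assoc ξ, ← Category.assoc φ,
        show φ ≫ pullback.fst G.s G.t = pullback.fst G.t G.t from pullback.lift_fst _ _ _, ← Category.assoc ξ,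
        show ξ ≫ pullback.fst G.t G.t = pullback.fst _ _ ≫ pullback.snd g G.t from pullback.lift_fst _ _ _,
        Category.assoc])
  have hκ : θ ≫ pairs G g = ξ ≫ φ := by
    apply pullback.hom_ext
    · rw [Category.assoc, pairs_fst, ← Category.assoc θ, pullback.lift_fst, Category.assoc ξ,
        show φ ≫ pullback.fst G.s G.t = pullback.fst G.t G.t from pullback.lift_fst _ _ _,
        show ξ ≫ pullback.fst G.t G.t = pullback.fst _ _ ≫ pullback.snd g G.t from pullback.lift_fst _ _ _]
    · rw [Category.assoc, pairs_snd, pullback.lift_snd]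
  have hm : θ ≫ mul G g = pullback.snd _ _ := by
    apply pullback.hom_ext
    · rw [Category.assoc, mul, pullback.lift_fst, ← Category.assoc θ, pullback.lift_fst, pullback.condition]
    · rw [Category.assoc, mul, pullback.lift_snd, ← Category.assoc θ, hκ, Category.assoc, hφc,
        show ξ ≫ pullback.snd G.t G.t = pullback.snd _ _ ≫ pullback.snd g G.t from pullback.lift_snd _ _ _]
  refine ⟨θ w, ?_, ?_⟩
  · rw [← Scheme.Hom.comp_apply, pullback.lift_fst]; exact hw₁
  · rw [← Scheme.Hom.comp_apply, hm]; exact hw₂

variable [LocallyOfFiniteType g] [LocallyOfFiniteType G.s] [LocallyOfFiniteType G.t]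

/-- Cohen–Macaulayness of the source is constant along the fibres of the projection to `U'`. -/
theorem isCMAt_transfer [Flat G.s] (q₀ q : ↥(pullback g G.t))
    (h : pullback.fst g G.t q₀ = pullback.fst g G.t q) (h0 : Grpd.IsCMAt (hMap G g) q₀) :
    Grpd.IsCMAt (hMap G g) q := by
  obtain ⟨z, hz₀, hz⟩ := exists_translate G g q₀ q h
  have h1 := isCMAt_baseChange (IsPullback.of_hasPullback (hMap G g) G.t) z (hz₀.symm ▸ h0)
  exact hz ▸ isCMAt_of_baseChange (isPullback_mul G g) z (Flat.stalkMap G.s _) h1

omit [LocallyOfFiniteType G.t] in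
/-- The fibre dimension of the source is constant along the fibres of the projection to `U'`. -/
theorem fibreDimAt_transfer (q₀ q : ↥(pullback g G.t)) (h : pullback.fst g G.t q₀ = pullback.fst g G.t q) :
    FlatMor.fibreDimAt (hMap G g) q₀ = FlatMor.fibreDimAt (hMap G g) q := by
  obtain ⟨z, hz₀, hz⟩ := exists_translate G g q₀ q h
  rw [← hz₀, ← hz, ← LocalDimBC.fibreDimAt_of_isPullback (hMap G g) G.t _ _
    (IsPullback.of_hasPullback (hMap G g) G.t) z, ← LocalDimBC.fibreDimAt_of_isPullback (hMap G g) G.s _ _
    (isPullback_mul G g) z]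

omit [LocallyOfFiniteType g] [LocallyOfFiniteType G.s] [LocallyOfFiniteType G.t] in
/-- The arrows between points of `U'`, seen from either end, are isomorphic. -/
theorem exists_swap : ∃ σ : pullback (hMap G g) g ≅ pullback (hMap G g) g,
    σ.hom ≫ pullback.snd (hMap G g) g = pullback.fst (hMap G g) g ≫ pullback.fst g G.t := by
  let P := pullback (hMap G g) g
  let a : P ⟶ pullback g G.t := pullback.lift (pullback.snd _ _)
    ((pullback.fst (hMap G g) g ≫ pullback.snd g G.t) ≫ G.i) (by
      rw [Category.assoc _ G.i, G.i_t, ← pullback.condition, Category.assoc])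
  let σ : P ⟶ P := pullback.lift a (pullback.fst (hMap G g) g ≫ pullback.fst g G.t) (by
    rw [← Category.assoc a, pullback.lift_snd, Category.assoc _ G.i, G.i_s, Category.assoc, Category.assoc,
      pullback.condition])
  have hfst : σ ≫ pullback.fst (hMap G g) g = a := pullback.lift_fst _ _ _
  have hσ : σ ≫ σ = 𝟙 P := by
    apply pullback.hom_ext
    · rw [Category.assoc, hfst, Category.id_comp]
      apply pullback.hom_ext
      · rw [Category.assoc, pullback.lift_fst, pullback.lift_snd]
      · rw [Category.assoc, pullback.lift_snd, ← Category.assoc σ, ← Category.assoc σ, hfst, pullback.lift_snd,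
          Category.assoc, Category.assoc, GrpdLib.i_i, Category.comp_id]
    · rw [Category.assoc, pullback.lift_snd, ← Category.assoc σ, hfst, pullback.lift_fst, Category.id_comp]
  exact ⟨⟨σ, σ, hσ, hσ⟩, pullback.lift_snd _ _ _⟩

end Groth.Agent.GrpdSlice
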